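import Groth.Agent.H02CA.Beil.Findim
import Groth.Prelude.Def_W4stkfunctorsequivp2Beil

/-!
# Finite dimensional modules over the Beilinson algebra are perfect
-/

set_option autoImplicit false
set_option linter.style.haveILetI false
set_option linter.unusedSectionVars false
set_option backward.isDefEq.respectTransparency false

universe w u

open CategoryTheory CategoryTheory.Limits DerivedCategory MvPolynomial

namespace Groth.Agent.H02CA.Beil

open Groth.Agent.H16Derived.QCohD

section Abstract

variable {k : Type u} [Field k] {n : ℕ} {R : Type u} [Ring R] [Algebra k R]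

variable (k) in
/-- A triangular system of idempotents with scalar diagonal. -/
structure Idems (e : Fin (n + 1) → R) : Prop where
  fin : Module.Finite k R
  idem : ∀ i, e i * e i = e i
  sum : ∑ i, e i = 1
  lt : ∀ {i j : Fin (n + 1)}, j < i → ∀ r : R, e i * r * e j = 0
  diag : ∀ (i : Fin (n + 1)) (r : R), ∃ c : k, e i * r * e i = c • e i

variable {e : Fin (n + 1) → R}

/-- `M` is supported on the vertices below `m`. -/
def Supp (e : Fin (n + 1) → R) (m : ℕ) (M : ModuleCat.{u} R) : Prop :=
  ∀ i : Fin (n + 1), m ≤ i → ∀ x : M, e i • x = 0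

theorem eq_zero_of_supp (hE : Idems k e) {M : ModuleCat.{u} R} (h : Supp e 0 M) (x : M) : x = 0 := by
  rw [← one_smul R x, ← hE.sum, Finset.sum_smul]
  exact Finset.sum_eq_zero fun i _ => h i (Nat.zero_le _) x

variable [HasDerivedCategory.{w} (ModuleCat.{u} R)]

/-- All degree shifts of `M` are compact. -/
def Ok (M : ModuleCat.{u} R) : Prop := ∀ q : ℤ,
  FinSupp.Holds.{u} (fun _ : DerivedCategory (ModuleCat.{u} R) => True)
    ((singleFunctor (ModuleCat.{u} R) q).obj M)

theorem ok_of_subsingleton (M : ModuleCat.{u} R) [Subsingleton M] : Ok M := fun q κ X _ _ α =>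
  ⟨∅, ((singleFunctor (ModuleCat.{u} R) q).map_isZero (ModuleCat.isZero_of_subsingleton M)).eq_of_src _ _⟩

/-- The projective `R e`. -/
noncomputable abbrev proj (e : Fin (n + 1) → R) (i : Fin (n + 1)) : Submodule R R := Submodule.span R {e i}

theorem mul_idem_of_mem (hE : Idems k e) {i : Fin (n + 1)} {x : R} (h : x ∈ proj e i) : x * e i = x := by
  obtain ⟨r, rfl⟩ := Submodule.mem_span_singleton.1 h
  rw [smul_eq_mul, mul_assoc, hE.idem]

theorem ok_proj_pow (hE : Idems k e) (i : Fin (n + 1)) (d : ℕ) : Ok (ModuleCat.of R (Fin d → proj e i)) := by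
  induction d with
  | zero => exact ok_of_subsingleton _
  | succ d ih =>
    intro q
    have h₁ : Ok (ModuleCat.of R (proj e i)) := fun q => by
      refine FinSupp.of_retract ?_ (holds_self (R := R) q)
      refine Retract.map ⟨ModuleCat.ofHom (proj e i).subtype, ModuleCat.ofHom
        { toFun := fun r => ⟨r * e i, Submodule.mem_span_singleton.2 ⟨r, rfl⟩⟩
          map_add' := fun a b => Subtype.ext (add_mul a b _)
          map_smul' := fun a b => Subtype.ext (mul_assoc a b _) }, ?_⟩ (singleFunctor _ q)
      exact ModuleCat.hom_ext (LinearMap.ext fun x => Subtype.ext (mul_idem_of_mem hE x.2))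
    let f : proj e i →ₗ[R] (Fin (d + 1) → proj e i) :=
      { toFun := fun x => Fin.cons x 0
        map_add' := fun x y => funext fun j => by refine Fin.cases ?_ (fun j => ?_) j <;> simp
        map_smul' := fun c x => funext fun j => by refine Fin.cases ?_ (fun j => ?_) j <;> simp }
    let g : (Fin (d + 1) → proj e i) →ₗ[R] (Fin d → proj e i) := LinearMap.funLeft R _ Fin.succ
    let S : ShortComplex (ModuleCat.{u} R) := ShortComplex.mk (ModuleCat.ofHom f) (ModuleCat.ofHom g)
      (ModuleCat.hom_ext (LinearMap.ext fun x => funext fun j => Fin.cons_succ (α := fun _ => proj e i) x 0 j))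
    have hS : S.ShortExact :=
      { exact := (ShortComplex.moduleCat_exact_iff S).2 fun x hx => ⟨x 0, funext fun j => by
          refine Fin.cases ?_ (fun j => ?_) j
          · show f (x 0) 0 = x 0
            simp [f]
          · show f (x 0) j.succ = x j.succ
            refine Eq.trans ?_ (congrFun hx j).symm
            simp [f]
            rfl⟩
        mono_f := (ModuleCat.mono_iff_injective _).2 fun x y h => by
          have h0 : f x 0 = f y 0 := congrFun h (0 : Fin (d + 1))
          simpa [f] using h0
        epi_g := (ModuleCat.epi_iff_surjective _).2 fun y => ⟨Fin.cons 0 y, funext fun j => by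
          show Fin.cons (α := fun _ => proj e i) 0 y j.succ = y j
          exact Fin.cons_succ _ _ _⟩ }
    exact holds_single₂ hS q (h₁ q) (ih q)

/-- A short exact sequence with left and middle. -/
theorem ok_quot {M : ModuleCat.{u} R} (N : Submodule R M) (h₁ : Ok (ModuleCat.of R N)) (h₂ : Ok M) :
    Ok (ModuleCat.of R (M ⧸ N)) := by
  let S : ShortComplex (ModuleCat.{u} R) := ShortComplex.mk (ModuleCat.ofHom N.subtype) (ModuleCat.ofHom N.mkQ)
    (ModuleCat.hom_ext (LinearMap.ext fun x => (Submodule.Quotient.mk_eq_zero N).2 x.2))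
  have hS : S.ShortExact :=
    { exact := (ShortComplex.moduleCat_exact_iff S).2 fun x hx => ⟨⟨x, (Submodule.Quotient.mk_eq_zero N).1 hx⟩, rfl⟩
      mono_f := (ModuleCat.mono_iff_injective _).2 Subtype.val_injective
      epi_g := (ModuleCat.epi_iff_surjective _).2 N.mkQ_surjective }
  exact fun q => holds_single₃ hS h₁ h₂ q

theorem ok_ext {M : ModuleCat.{u} R} (N : Submodule R M) (h₁ : Ok (ModuleCat.of R N))
    (h₃ : Ok (ModuleCat.of R (M ⧸ N))) : Ok M := by
  let S : ShortComplex (ModuleCat.{u} R) := ShortComplex.mk (ModuleCat.ofHom N.subtype) (ModuleCat.ofHom N.mkQ)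
    (ModuleCat.hom_ext (LinearMap.ext fun x => (Submodule.Quotient.mk_eq_zero N).2 x.2))
  have hS : S.ShortExact :=
    { exact := (ShortComplex.moduleCat_exact_iff S).2 fun x hx => ⟨⟨x, (Submodule.Quotient.mk_eq_zero N).1 hx⟩, rfl⟩
      mono_f := (ModuleCat.mono_iff_injective _).2 Subtype.val_injective
      epi_g := (ModuleCat.epi_iff_surjective _).2 N.mkQ_surjective }
  exact fun q => holds_single₂ hS q (h₁ q) (h₃ q)

/-- Finite dimensional modules are built from the projectives. -/
theorem ok_of_supp (hE : Idems k e) : ∀ (m : ℕ) (M : ModuleCat.{u} R), IsFD k M → Supp e m M → Ok M := by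
  intro m
  induction m with
  | zero =>
    intro M _ hs
    haveI : Subsingleton M := ⟨fun x y => (eq_zero_of_supp hE hs x).trans (eq_zero_of_supp hE hs y).symm⟩
    exact ok_of_subsingleton M
  | succ m ih =>
    intro M hM hs
    by_cases hm : m < n + 1
    swap
    · exact ih M hM fun i hi => absurd i.2 (by omega)
    let v : Fin (n + 1) := ⟨m, hm⟩
    haveI : Module.Finite k (RestrictScalars k R M) := hM
    let T : RestrictScalars k R M →ₗ[k] RestrictScalars k R M :=
      { toFun := fun x => show M from e v • (show M from x)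
        map_add' := fun x y => smul_add (e v) (show M from x) (show M from y)
        map_smul' := fun c x => by
          show e v • (algebraMap k R c • (show M from x)) = algebraMap k R c • (e v • (show M from x))
          rw [smul_smul, smul_smul, Algebra.commutes] }
    let d := Module.finrank k (LinearMap.range T)
    let b : Module.Basis (Fin d) k (LinearMap.range T) := Module.finBasis k _
    let P := ModuleCat.of R (Fin d → proj e v)
    let bv : Fin d → M := fun j => ((b j : LinearMap.range T) : RestrictScalars k R M)
    have hbv : ∀ j, e v • bv j = bv j := fun j => by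
      obtain ⟨x, hx⟩ := (b j).2
      show e v • (show M from (b j).1) = (show M from (b j).1)
      rw [← hx]
      show e v • e v • (show M from x) = e v • (show M from x)
      rw [smul_smul, hE.idem]
    let φ : P →ₗ[R] M :=
      { toFun := fun x => ∑ j, ((x j : proj e v) : R) • bv j
        map_add' := fun x y => by
          rw [← Finset.sum_add_distrib]
          exact Finset.sum_congr rfl fun j _ => add_smul _ _ _
        map_smul' := fun r x => by
          rw [RingHom.id_apply, Finset.smul_sum]
          exact Finset.sum_congr rfl fun j _ => mul_smul _ _ _ }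
    haveI hfinP : IsFD k P := by
      haveI := hE.fin
      haveI hRfd : IsFD k (ModuleCat.of R R) := Module.Finite.of_surjective
        ({ toFun := fun r => r, map_add' := fun _ _ => rfl,
           map_smul' := fun c r => Algebra.smul_def c r } : R →ₗ[k] RestrictScalars k R (ModuleCat.of R R))
        fun r => ⟨r, rfl⟩
      haveI : Module.Finite k (RestrictScalars k R (ModuleCat.of R R)) := hRfd
      let ev : RestrictScalars k R P →ₗ[k] (Fin d → RestrictScalars k R (ModuleCat.of R R)) :=
        LinearMap.pi fun j => rsMap k ((proj e v).subtype.comp (LinearMap.proj j) : P →ₗ[R] R)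
      exact FiniteDimensional.of_injective ev fun x y h => funext fun j => Subtype.ext (congrFun h j)
    let Ker := LinearMap.ker φ
    have hKer : Ok (ModuleCat.of R Ker) := by
      refine ih _ (isFD_of_injective k Ker.subtype Subtype.val_injective hfinP) fun i hi x => ?_
      refine Subtype.ext (funext fun j => Subtype.ext ?_)
      show e i * ((x.1 j : proj e v) : R) = 0
      have hx : e i * ((x.1 j : proj e v) : R) =
          e i * ((x.1 j : proj e v) : R) * e v := by
        rw [mul_assoc, mul_idem_of_mem hE (x.1 j).2]
      rcases eq_or_lt_of_le hi with h | h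
      · obtain rfl : i = v := Fin.ext h.symm
        choose c hc' using fun j => hE.diag v ((x.1 j : proj e v) : R)
        rw [hx, hc' j]
        suffices hc : c j = 0 by
          show c j • e v = 0
          rw [hc, zero_smul]
        have h0 : ∑ j, c j • b j = 0 := by
          refine Subtype.ext ?_
          rw [AddSubmonoidClass.coe_finset_sum, ZeroMemClass.coe_zero]
          have hk : (∑ j, ((x.1 j : proj e v) : R) • bv j : M) = 0 := x.2
          have h2 := congrArg (e v • ·) hk
          simp only [Finset.smul_sum, smul_zero] at h2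
          refine Eq.trans (Finset.sum_congr rfl fun j _ => ?_) h2
          show algebraMap k R (c j) • bv j = e v • ((x.1 j : proj e v) : R) • bv j
          conv_rhs => rw [← hbv j, smul_smul, smul_smul, hc' j]
          conv_lhs => rw [← hbv j, smul_smul]
          rw [Algebra.smul_def]
        exact linearIndependent_iff'.1 b.linearIndependent Finset.univ c h0 j (Finset.mem_univ j)
      · rw [hx]
        exact hE.lt (show v < i from h) _
    let N := LinearMap.range φ
    have hN : Ok (ModuleCat.of R N) := by
      have h := ok_quot Ker hKer (ok_proj_pow hE v d)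
      exact fun q => FinSupp.of_iso ((singleFunctor _ q).mapIso φ.quotKerEquivRange.toModuleIso) (h q)
    refine ok_ext N hN (ih _ (isFD_of_surjective k N.mkQ N.mkQ_surjective hM) fun i hi x => ?_)
    obtain ⟨x, rfl⟩ := N.mkQ_surjective x
    rw [← map_smul]
    refine (Submodule.Quotient.mk_eq_zero N).2 ?_
    rcases eq_or_lt_of_le hi with h | h
    · obtain rfl : i = v := Fin.ext h.symm
      have hx : T x ∈ LinearMap.range T := ⟨x, rfl⟩
      refine ⟨fun j => ⟨b.repr ⟨T x, hx⟩ j • e v, Submodule.mem_span_singleton.2
        ⟨algebraMap k R (b.repr ⟨T x, hx⟩ j), (Algebra.smul_def _ _).symm⟩⟩, ?_⟩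
      show ∑ j, (b.repr ⟨T x, hx⟩ j • e v) • bv j = e v • x
      have h1 := congrArg Subtype.val (b.sum_repr ⟨T x, hx⟩)
      rw [AddSubmonoidClass.coe_finset_sum] at h1
      refine Eq.trans (Finset.sum_congr rfl fun j _ => ?_) h1
      rw [Algebra.smul_def, mul_smul, hbv j]
      rfl
    · rw [hs i (by omega) x]
      exact N.zero_mem


end Abstract

section Beilinson

variable (k : Type u) [Field k] (n : ℕ)

local notation "Bl" => DEquiv.beilinsonAlg k n
local notation "Mat" => Matrix (Fin (n + 1)) (Fin (n + 1)) (MvPolynomial (Fin (n + 1)) k)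

instance finite_beilinsonAlg : Module.Finite k (DEquiv.beilinsonAlg k n) := by
  let V := fun i j : Fin (n + 1) => homogeneousSubmodule (Fin (n + 1)) k ((j : ℕ) - i)
  haveI : ∀ i j, Module.Finite k (V i j) := fun i j =>
    Module.Finite.iff_fg.2 (homogeneousSubmodule_fg (σ := Fin (n + 1)) (R := k) _)
  let T : DEquiv.beilinsonAlg k n →ₗ[k] ∀ i, ∀ j, V i j :=
    { toFun := fun M i j => ⟨(M : Mat) i j, (M.2 i j).2⟩
      map_add' := fun _ _ => rfl
      map_smul' := fun _ _ => rfl }
  refine FiniteDimensional.of_injective T fun M N h => Subtype.ext (Matrix.ext fun i j => ?_)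
  exact congrArg (fun t => ((t i j : V i j) : MvPolynomial (Fin (n + 1)) k)) h

/-- The diagonal idempotent. -/
noncomputable def idem (i : Fin (n + 1)) : Bl :=
  ⟨Matrix.single i i 1, fun a b => by
    by_cases h : i = a ∧ i = b
    · obtain ⟨rfl, rfl⟩ := h
      refine ⟨fun hlt => absurd hlt (lt_irrefl _), ?_⟩
      rw [Matrix.single_apply_same, Nat.sub_self]
      exact isHomogeneous_one _ _
    · rw [Matrix.single_apply_of_ne _ _ _ _ _ h]
      exact ⟨fun _ => rfl, isHomogeneous_zero _ _ _⟩⟩

theorem idem_mul_self (i : Fin (n + 1)) : idem k n i * idem k n i = idem k n i :=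
  Subtype.ext (show Matrix.single i i 1 * Matrix.single i i 1 = Matrix.single i i 1 by simp)

theorem sum_idem : ∑ i, idem k n i = 1 := by
  refine Subtype.ext ?_
  rw [AddSubmonoidClass.coe_finset_sum, OneMemClass.coe_one]
  exact Matrix.sum_single_one

theorem idem_mul_mul (i j : Fin (n + 1)) (r : Bl) :
    ((idem k n i * r * idem k n j : Bl) : Mat) = Matrix.single i j ((r : Mat) i j) := by
  show Matrix.single i i 1 * (r : Mat) * Matrix.single j j 1 = _
  rw [Matrix.single_mul_mul_single]
  simp

theorem idem_mul_mul_of_lt {i j : Fin (n + 1)} (h : j < i) (r : Bl) : idem k n i * r * idem k n j = 0 :=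
  Subtype.ext ((idem_mul_mul k n i j r).trans (by rw [(r.2 i j).1 h, Matrix.single_zero]; rfl))

/-- The scalar of a diagonal entry. -/
theorem idem_mul_mul_self (i : Fin (n + 1)) (r : Bl) :
    idem k n i * r * idem k n i = ((r : Mat) i i).coeff 0 • idem k n i := by
  refine Subtype.ext ((idem_mul_mul k n i i r).trans ?_)
  show Matrix.single i i ((r : Mat) i i) = ((r : Mat) i i).coeff 0 • Matrix.single i i (1 : MvPolynomial (Fin (n + 1)) k)
  rw [Matrix.smul_single]
  congr 1
  have h := (r.2 i i).2
  rw [Nat.sub_self] at h
  rw [Algebra.smul_def, mul_one, algebraMap_eq]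
  exact totalDegree_eq_zero_iff_eq_C.1 ((totalDegree_zero_iff_isHomogeneous (Fin (n + 1))).2 h)

theorem idems : Idems k (idem k n) where
  fin := finite_beilinsonAlg k n
  idem := idem_mul_self k n
  sum := sum_idem k n
  lt h r := idem_mul_mul_of_lt k n h r
  diag i r := ⟨_, idem_mul_mul_self k n i r⟩

end Beilinson

end Groth.Agent.H02CA.Beil
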