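import Groth.Agent.H15Site.CompactFree.Chain
import Groth.Agent.H16Derived.QCoprod
import Groth.Agent.H16Derived.KInjRes.Products
import Groth.Agent.H16Derived.WayOut
import Mathlib.Algebra.Category.ModuleCat.Abelian
import Mathlib.Algebra.Category.ModuleCat.Projective
import Mathlib.CategoryTheory.Preadditive.Yoneda.Limits
import Mathlib.Algebra.Homology.HomotopyCategory.KProjective
import Mathlib.Algebra.Homology.DerivedCategory.ShortExact
import Mathlib.Algebra.Homology.DerivedCategory.KProjective

/-!
# Compactness in the derived category of modules over a (possibly noncommutative) ring, any hom universe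
-/

set_option autoImplicit false
set_option linter.style.haveILetI false
set_option linter.unusedSectionVars false
set_option backward.isDefEq.respectTransparency false

universe w v u

open CategoryTheory CategoryTheory.Limits CategoryTheory.Pretriangulated Opposite DerivedCategory
open DerivedCategory.TStructure

namespace Groth.Agent.H02CA.Beil

open Groth.Agent.H16Derived Groth.Agent.H16Derived.QCohD

section

variable {D : Type u} [Category.{max v w} D] [Preadditive D]

/-- If `Hom(K, -)` preserves a coproduct, maps into it have finite support. -/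
theorem exists_support {K : D} {κ : Type v} (X : κ → D) [HasCoproduct X]
    [PreservesColimit (Discrete.functor X) (preadditiveCoyoneda.obj (op K))] (α : K ⟶ ∐ X) :
    ∃ s : Finset κ, α ≫ FinSupp.idem X s = α := by
  classical
  let Φ := preadditiveCoyoneda.obj (op K)
  let hc := isColimitCofanMkObjOfIsColimit Φ X _ (coproductIsCoproduct X)
  let c : Cofan fun i => Φ.obj (X i) := Cofan.mk (AddCommGrpCat.of (DirectSum κ fun i => Φ.obj (X i)))
    fun i => AddCommGrpCat.ofHom (DirectSum.of (fun i => Φ.obj (X i)) i)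
  let m : Φ.obj (∐ X) ⟶ c.pt := hc.desc c
  let s : c.pt ⟶ Φ.obj (∐ X) :=
    AddCommGrpCat.ofHom (DirectSum.toAddMonoid fun i => (Φ.map (Sigma.ι X i)).hom)
  have hms : m ≫ s = 𝟙 _ := by
    refine Cofan.IsColimit.hom_ext hc _ _ fun i => ?_
    have e : Φ.map (Sigma.ι X i) ≫ m = c.inj i := hc.fac c ⟨i⟩
    show Φ.map (Sigma.ι X i) ≫ m ≫ s = Φ.map (Sigma.ι X i) ≫ 𝟙 _
    rw [reassoc_of% e, Category.comp_id]
    exact AddCommGrpCat.hom_ext (AddMonoidHom.ext fun y =>
      DirectSum.toAddMonoid_of (fun i => (Φ.map (Sigma.ι X i)).hom) i y)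
  let b : DirectSum κ fun i => Φ.obj (X i) := m.hom α
  have hb : s.hom b = α := congrArg (fun t : Φ.obj (∐ X) ⟶ Φ.obj (∐ X) => t.hom α) hms
  refine ⟨DFinsupp.support b, ?_⟩
  let L : (K ⟶ ∐ X) →+ (K ⟶ ∐ X) := Preadditive.rightComp K (FinSupp.idem X (DFinsupp.support b))
  show L α = α
  rw [← hb]
  change L (DirectSum.toAddMonoid (fun i => (Φ.map (Sigma.ι X i)).hom) b) =
    DirectSum.toAddMonoid (fun i => (Φ.map (Sigma.ι X i)).hom) b
  conv_lhs => rw [← DirectSum.sum_support_of b]
  conv_rhs => rw [← DirectSum.sum_support_of b]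
  rw [map_sum, map_sum]
  refine Finset.sum_congr rfl fun i hi => ?_
  rw [DirectSum.toAddMonoid_of]
  show ((show K ⟶ X i from b i) ≫ Sigma.ι X i) ≫ FinSupp.idem X _ = (show K ⟶ X i from b i) ≫ Sigma.ι X i
  rw [Category.assoc, FinSupp.ι_idem, if_pos hi]

/-- Finite support gives preservation of coproducts. -/
theorem preserves_of_holds [HasCoproducts.{v} D] {K : D}
    (h : FinSupp.Holds.{v} (fun _ : D => True) K) (ι : Type v) :
    PreservesColimitsOfShape (Discrete ι) (preadditiveCoyoneda.obj (op K)) := by
  classical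
  let Φ : D ⥤ AddCommGrpCat.{max v w} := preadditiveCoyoneda.obj (op K)
  haveI : ∀ F : ι → D, PreservesColimit (Discrete.functor F) Φ := fun F => by
    have hθ : Function.Bijective (PerfAux.homSumToHomCoprod K F) :=
      (FinSupp.isCompactObjRel_iff (P := fun _ : D => True) K).2 h ι F fun _ => trivial
    let e := AddEquiv.ofBijective (PerfAux.homSumToHomCoprod K F) hθ
    refine preservesColimit_of_preserves_colimit_cocone (coproductIsCoproduct F)
      ((isColimitMapCoconeCofanMkEquiv Φ F (Sigma.ι F)).symm ?_)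
    refine mkCofanColimit _
      (fun t => AddCommGrpCat.ofHom ((DirectSum.toAddMonoid fun i => (t.inj i).hom).comp e.symm.toAddMonoidHom))
      (fun t i => AddCommGrpCat.hom_ext (AddMonoidHom.ext fun x => ?_))
      (fun t m hm => AddCommGrpCat.hom_ext (AddMonoidHom.ext fun y => ?_))
    · have hx : e (DirectSum.of (fun i => K ⟶ F i) i x) = (show K ⟶ F i from x) ≫ Sigma.ι F i :=
        DirectSum.toAddMonoid_of (fun i => Preadditive.rightComp K (Sigma.ι F i)) i x
      show DirectSum.toAddMonoid (fun i => (t.inj i).hom) (e.symm ((show K ⟶ F i from x) ≫ Sigma.ι F i)) = _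
      rw [← hx, AddEquiv.symm_apply_apply]
      exact DirectSum.toAddMonoid_of _ _ _
    · obtain ⟨b, rfl⟩ := e.surjective y
      show m.hom (e b) = DirectSum.toAddMonoid (fun i => (t.inj i).hom) (e.symm (e b))
      rw [AddEquiv.symm_apply_apply]
      refine DFunLike.congr_fun (DirectSum.addHom_ext' fun i => AddMonoidHom.ext fun x => ?_ :
        m.hom.comp e.toAddMonoidHom = DirectSum.toAddMonoid fun i => (t.inj i).hom) b
      refine Eq.trans ?_ (DirectSum.toAddMonoid_of (fun i => (t.inj i).hom) i x).symm
      exact (congrArg m.hom (DirectSum.toAddMonoid_of _ _ _)).trans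
        (congrArg (fun g => AddCommGrpCat.Hom.hom g x) (hm i))
  exact preservesColimitsOfShape_of_discrete Φ

theorem idem_comp_proj_eq_zero {κ : Type v} (X : κ → D) [HasCoproduct X] {s : Finset κ} {i : κ} (hi : i ∉ s) :
    FinSupp.idem X s ≫ FinSupp.proj X i = 0 := by
  classical
  refine Sigma.hom_ext _ _ fun k => ?_
  rw [← Category.assoc, FinSupp.ι_idem, comp_zero]
  by_cases hk : k ∈ s
  · rw [if_pos hk]
    simp [FinSupp.proj, show k ≠ i from fun h => hi (h ▸ hk)]
  · rw [if_neg hk, zero_comp]

end

section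

variable {A : Type u} [Category.{v} A] [Abelian A] [IsGrothendieckAbelian.{v} A] [HasDerivedCategory.{w} A]

/-- Projective objects with finite support are compact in the derived category. -/
theorem holds_projective {G : A} [Projective G] (hG : Groth.Agent.H15Site.CompactFree.FinMaps G) (m : ℤ) :
    FinSupp.Holds.{v} (fun _ : DerivedCategory A => True) ((singleFunctor A m).obj G) := by
  intro κ M _ _ α
  refine Groth.Agent.H15Site.CompactFree.exists_support_of_chain hG m M (fun i => Q.objPreimage (M i))
    (fun i => (Q.objObjPreimageIso (M i)).symm) (fun γ => ?_) α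
  let S : CochainComplex A ℤ := (HomologicalComplex.single A (ComplexShape.up ℤ) m).obj G
  haveI : ∀ q, Projective (S.X q) := fun q => by
    by_cases h : q = m
    · subst h
      exact Projective.of_iso (HomologicalComplex.singleObjXSelf _ q G).symm inferInstance
    · exact (HomologicalComplex.isZero_single_obj_X _ m G q h).projective
  haveI : S.IsStrictlyLE m := (CochainComplex.isStrictlyLE_iff S m).2 fun q hq =>
    HomologicalComplex.isZero_single_obj_X _ m G q (by omega)
  haveI : CochainComplex.IsKProjective S := CochainComplex.isKProjective_of_projective S m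
  obtain ⟨g, hg⟩ := (CochainComplex.IsKProjective.Qh_map_bijective _ _).2
    (((quotientCompQhIso A).hom.app S ≫ γ ≫ (quotientCompQhIso A).inv.app _))
  obtain ⟨f, rfl⟩ := (HomotopyCategory.quotient A (ComplexShape.up ℤ)).map_surjective g
  refine ⟨f, ?_⟩
  rw [← cancel_epi ((quotientCompQhIso A).hom.app S), ← (quotientCompQhIso A).hom.naturality f,
    Functor.comp_map, hg]
  simp

/-- Bounded objects are built from their cohomology. -/
theorem holds_bounded (P : ObjectProperty A) [P.IsClosedUnderIsomorphisms] (hz : ∀ Z : A, IsZero Z → P Z)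
    (hs : ∀ (M : A) (m : ℤ), P M → FinSupp.Holds.{v} (fun _ : DerivedCategory A => True) ((singleFunctor A m).obj M))
    (a : ℤ) : ∀ (k : ℕ) (X : DerivedCategory A), X.IsGE a → X.IsLE (a + k) →
    (∀ i, P ((homologyFunctor A i).obj X)) → FinSupp.Holds.{v} (fun _ : DerivedCategory A => True) X := by
  intro k
  induction k with
  | zero =>
    intro X hge hle hX
    have : X.IsLE a := by simpa using hle
    obtain ⟨M, ⟨e⟩⟩ := X.exists_iso_singleFunctor_obj_of_isGE_of_isLE a
    exact FinSupp.of_iso e.symm (hs M a (P.prop_of_iso ((homologyFunctor A a).mapIso e ≪≫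
      (singleFunctorCompHomologyFunctorIso A a).app M) (hX a)))
  | succ k ih =>
    intro X hge hle hX
    have h1 : DerivedCategory.IsGE ((t.truncLT (a + k + 1)).obj X) a := DTrunc.isGE_truncLT X _ a
    have h2 : DerivedCategory.IsLE ((t.truncLT (a + k + 1)).obj X) (a + k) := by
      have h : t.IsLE ((t.truncLT (a + k + 1)).obj X) (a + k + 1 - 1) := inferInstance
      rwa [add_sub_cancel_right] at h
    have h3 : DerivedCategory.IsGE ((t.truncGE (a + k + 1)).obj X) (a + k + 1) :=
      inferInstanceAs (t.IsGE _ (a + k + 1))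
    have h4 : DerivedCategory.IsLE ((t.truncGE (a + k + 1)).obj X) (a + k + 1) := by
      have : X.IsLE (a + k + 1) := by simpa [add_assoc] using hle
      exact DTrunc.isLE_truncGE X _ _
    refine FinSupp.ext₂ (t.triangleLTGE_distinguished (a + k + 1) X)
      (ih _ h1 h2 (WayOut.p_truncLT P hz hX _)) ?_
    obtain ⟨M, ⟨e⟩⟩ := DerivedCategory.exists_iso_singleFunctor_obj_of_isGE_of_isLE
      ((t.truncGE (a + k + 1)).obj X) (a + k + 1)
    exact FinSupp.of_iso e.symm (hs M _ (P.prop_of_iso ((homologyFunctor A _).mapIso e ≪≫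
      (singleFunctorCompHomologyFunctorIso A _).app M) (WayOut.p_truncGE P hz hX _ _)))

variable {S : ShortComplex A}

theorem holds_single₂ (hS : S.ShortExact) (m : ℤ)
    (h₁ : FinSupp.Holds.{v} (fun _ : DerivedCategory A => True) ((singleFunctor A m).obj S.X₁))
    (h₃ : FinSupp.Holds.{v} (fun _ : DerivedCategory A => True) ((singleFunctor A m).obj S.X₃)) :
    FinSupp.Holds.{v} (fun _ : DerivedCategory A => True) ((singleFunctor A m).obj S.X₂) := by
  let e := singleFunctorIsoCompQ A m
  exact FinSupp.of_iso (e.app S.X₂).symm (FinSupp.ext₂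
    (triangleOfSES_distinguished (hS.map_of_exact (HomologicalComplex.single A (ComplexShape.up ℤ) m)))
    (FinSupp.of_iso (e.app S.X₁) h₁) (FinSupp.of_iso (e.app S.X₃) h₃))

theorem holds_single₃ (hS : S.ShortExact)
    (h₁ : ∀ m, FinSupp.Holds.{v} (fun _ : DerivedCategory A => True) ((singleFunctor A m).obj S.X₁))
    (h₂ : ∀ m, FinSupp.Holds.{v} (fun _ : DerivedCategory A => True) ((singleFunctor A m).obj S.X₂)) (m : ℤ) :
    FinSupp.Holds.{v} (fun _ : DerivedCategory A => True) ((singleFunctor A m).obj S.X₃) := by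
  let e := singleFunctorIsoCompQ A m
  exact FinSupp.of_iso (e.app S.X₃).symm (FinSupp.ext₂
    (rot_of_distTriang _ (triangleOfSES_distinguished (hS.map_of_exact (HomologicalComplex.single A (ComplexShape.up ℤ) m))))
    (FinSupp.of_iso (e.app S.X₂) (h₂ m))
    (FinSupp.of_iso ((((singleFunctors A).shiftIso 1 (m - 1) m (by omega)).app S.X₁).symm ≪≫
      (shiftFunctor _ (1 : ℤ)).mapIso (e.app S.X₁)) (h₁ (m - 1))))

end

end Groth.Agent.H02CA.Beil
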