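import Groth.Agent.H02CA.Beil.Compact
import Mathlib.Algebra.Algebra.RestrictScalars
import Mathlib.Algebra.Category.ModuleCat.Products
import Mathlib.Algebra.Category.ModuleCat.AB
import Mathlib.RingTheory.Finiteness.Basic
import Mathlib.LinearAlgebra.Basis.VectorSpace
import Mathlib.Algebra.Homology.SingleHomology
import Mathlib.Algebra.BigOperators.Finprod

/-!
# Compact objects over finite dimensional algebras: finite dimensional bounded cohomology
-/

set_option autoImplicit false
set_option linter.style.haveILetI false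
set_option linter.unusedSectionVars false
set_option backward.isDefEq.respectTransparency false

universe w u

open CategoryTheory CategoryTheory.Limits CategoryTheory.Pretriangulated Opposite DerivedCategory

namespace Groth.Agent.H02CA.Beil

open Groth.Agent.H16Derived Groth.Agent.H16Derived.QCohD

variable (k : Type u) [Field k] {R : Type u} [Ring R] [Algebra k R]

section RS

/-- `M` is finite dimensional over `k`. -/
def IsFD : ObjectProperty (ModuleCat.{u} R) := fun M => Module.Finite k (RestrictScalars k R M)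

/-- A linear map, over `k`. -/
def rsMap {M N : Type u} [AddCommGroup M] [AddCommGroup N] [Module R M] [Module R N] (f : M →ₗ[R] N) :
    RestrictScalars k R M →ₗ[k] RestrictScalars k R N where
  toFun x := f x
  map_add' x y := map_add f _ _
  map_smul' c x := map_smul f (algebraMap k R c) _

theorem isFD_of_injective {M N : ModuleCat.{u} R} (f : M →ₗ[R] N) (hf : Function.Injective f)
    (h : IsFD k N) : IsFD k M :=
  haveI : Module.Finite k (RestrictScalars k R N) := h
  FiniteDimensional.of_injective (rsMap k f) hf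

theorem isFD_of_surjective {M N : ModuleCat.{u} R} (f : M →ₗ[R] N) (hf : Function.Surjective f)
    (h : IsFD k M) : IsFD k N :=
  haveI : Module.Finite k (RestrictScalars k R M) := h
  Module.Finite.of_surjective (rsMap k f) hf

instance : (IsFD k (R := R)).IsClosedUnderIsomorphisms where
  of_iso e h := isFD_of_surjective k e.toLinearEquiv.toLinearMap e.toLinearEquiv.surjective h

theorem isFD_of_isZero (Z : ModuleCat.{u} R) (hZ : IsZero Z) : IsFD k Z := by
  haveI : Subsingleton Z := ModuleCat.subsingleton_of_isZero hZ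
  haveI : Subsingleton (RestrictScalars k R Z) := inferInstanceAs (Subsingleton Z)
  exact Module.Finite.of_surjective (0 : (Fin 0 → k) →ₗ[k] RestrictScalars k R Z)
    fun x => ⟨0, Subsingleton.elim _ _⟩

end RS

open Classical in
/-- Maps from `R` into direct sums have finite support. -/
theorem finMaps_self : Groth.Agent.H15Site.CompactFree.FinMaps (ModuleCat.of R R) := by
  intro κ F g
  let e := ModuleCat.coprodIsoDirectSum F
  let z : DirectSum κ (fun i => (F i : Type u)) := e.hom.hom (g.hom (1 : R))
  refine ⟨DFinsupp.support z, ModuleCat.hom_ext (LinearMap.ext_ring ?_)⟩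
  show (FinSupp.idem F _).hom (g.hom (1 : R)) = g.hom (1 : R)
  have hz : g.hom (1 : R) = ∑ i ∈ DFinsupp.support z, (Sigma.ι F i).hom (z i) := by
    have h1 : g.hom (1 : R) = e.inv.hom z := by
      show g.hom (1 : R) = (e.hom ≫ e.inv).hom (g.hom (1 : R))
      rw [e.hom_inv_id]; rfl
    rw [h1]
    conv_lhs => rw [← DirectSum.sum_support_of z]
    rw [map_sum]
    exact Finset.sum_congr rfl fun i _ =>
      congrArg (fun t => ModuleCat.Hom.hom t (z i)) (ModuleCat.lof_coprodIsoDirectSum_inv F i)
  rw [hz, map_sum]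
  refine Finset.sum_congr rfl fun i hi => ?_
  have h2 := FinSupp.ι_idem F (DFinsupp.support z) i
  rw [if_pos hi] at h2
  exact congrArg (fun t => ModuleCat.Hom.hom t (z i)) h2

theorem holds_self [HasDerivedCategory.{w} (ModuleCat.{u} R)] (m : ℤ) :
    FinSupp.Holds.{u} (fun _ : DerivedCategory (ModuleCat.{u} R) => True)
      ((singleFunctor (ModuleCat.{u} R) m).obj (ModuleCat.of R R)) := by
  haveI : Projective (ModuleCat.of R R) := ModuleCat.projective_of_categoryTheory_projective (ModuleCat.of R R)
  exact holds_projective finMaps_self m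

section Forward

variable (C : CochainComplex (ModuleCat.{u} R) ℤ)

/-- A map to a single complex vanishing in homology kills the homology. -/
theorem homologyι_comp_eq_zero (i : ℤ) {W : ModuleCat.{u} R} (φ : C.opcycles i ⟶ W)
    (f : C ⟶ (HomologicalComplex.single _ (ComplexShape.up ℤ) i).obj W)
    (hf : f.f i = C.pOpcycles i ≫ φ ≫ (HomologicalComplex.singleObjXSelf (ComplexShape.up ℤ) i W).inv)
    (h : HomologicalComplex.homologyMap f i = 0) : C.homologyι i ≫ φ = 0 := by
  let S := (HomologicalComplex.single (ModuleCat.{u} R) (ComplexShape.up ℤ) i).obj W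
  have h1 : HomologicalComplex.opcyclesMap f i ≫ (HomologicalComplex.singleObjOpcyclesSelfIso (ComplexShape.up ℤ) i W).inv = φ := by
    rw [Iso.comp_inv_eq, ← cancel_epi (C.pOpcycles i), HomologicalComplex.p_opcyclesMap, hf,
      HomologicalComplex.singleObjOpcyclesSelfIso_hom]
    simp
  rw [← h1, ← Category.assoc, ← HomologicalComplex.homologyι_naturality, h, zero_comp, zero_comp]

variable [Module.Finite k R]

open Classical in
/-- The main construction. -/
theorem exists_finite_bases [HasDerivedCategory.{max u w} (ModuleCat.{u} R)]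
    (hK : ∀ J : Type u, PreservesColimitsOfShape (Discrete J) (preadditiveCoyoneda.obj (op (Q.obj C)))) :
    (∀ i, IsFD k (C.homology i)) ∧ {i : ℤ | Nontrivial (C.homology i)}.Finite := by
  let H : ℤ → Type u := fun i => RestrictScalars k R (C.homology i)
  let b := fun i => Module.Basis.ofVectorSpace k (H i)
  let J := fun i => Module.Basis.ofVectorSpaceIndex k (H i)
  have hinj : ∀ i, Function.Injective (rsMap k (C.homologyι i).hom) := fun i =>
    (ModuleCat.mono_iff_injective (C.homologyι i)).1 inferInstance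
  choose π hπ using fun i => LinearMap.exists_leftInverse_of_injective (rsMap k (C.homologyι i).hom)
    (LinearMap.ker_eq_bot.2 (hinj i))
  let κ : Type u := Σ i : ℤ, J i
  -- `lam p` is the functional on opcycles
  let lam : ∀ p : κ, RestrictScalars k R (C.opcycles p.1) →ₗ[k] k := fun p => (b p.1).coord p.2 ∘ₗ π p.1
  let N : ∀ p : κ, Submodule R (C.opcycles p.1) := fun p =>
    { carrier := {o | ∀ r : R, lam p (r • (o : C.opcycles p.1)) = 0}
      add_mem' := fun {x y} hx hy r => by
        rw [smul_add]
        exact (map_add (lam p) _ _).trans (by rw [hx r, hy r, add_zero])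
      zero_mem' := fun r => by rw [smul_zero]; exact map_zero (lam p)
      smul_mem' := fun c x hx r => by rw [smul_smul]; exact hx _ }
  let W : κ → ModuleCat.{u} R := fun p => ModuleCat.of R ((C.opcycles p.1) ⧸ N p)
  let F : κ → CochainComplex (ModuleCat.{u} R) ℤ := fun p =>
    (HomologicalComplex.single _ (ComplexShape.up ℤ) p.1).obj (W p)
  let c : ∀ (i : ℤ) (j : J i), W ⟨i, j⟩ ⟶ (∐ F).X i := fun i j =>
    (HomologicalComplex.singleObjXSelf (ComplexShape.up ℤ) i (W ⟨i, j⟩)).inv ≫ (Sigma.ι F ⟨i, j⟩).f i
  -- finite support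
  have hfin : ∀ (i : ℤ) (o : C.opcycles i),
      (Function.support fun j : J i => (c i j).hom (Submodule.mkQ (N ⟨i, j⟩) o)).Finite := fun i o => by
    let T : R →ₗ[k] H i := π i ∘ₗ
      { toFun := fun r => (r • o : C.opcycles i)
        map_add' := fun r s => add_smul r s o
        map_smul' := fun t r => by
          show (t • r) • o = algebraMap k R t • r • o
          rw [Algebra.smul_def, mul_smul] }
    obtain ⟨s, hs⟩ := (Submodule.fg_def.1 (Module.Finite.fg_top (R := k) (M := LinearMap.range T)))
    refine (Set.Finite.biUnion hs.1 fun x _ => ((b i).repr x.1).support.finite_toSet).subset ?_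
    intro j hj
    by_contra hmem
    refine hj ?_
    have : Submodule.mkQ (N ⟨i, j⟩) o = 0 := by
      rw [Submodule.mkQ_apply, Submodule.Quotient.mk_eq_zero]
      intro r
      have hsub : LinearMap.range T ≤ LinearMap.ker ((b i).coord j) := by
        intro y hy
        have hy' : (⟨y, hy⟩ : LinearMap.range T) ∈ Submodule.span k s := hs.2 ▸ Submodule.mem_top
        refine Submodule.span_induction (p := fun (x : LinearMap.range T) _ => x.1 ∈ LinearMap.ker ((b i).coord j))
          (fun x hx => ?_) (Submodule.zero_mem _) (fun _ _ _ _ h1 h2 => Submodule.add_mem _ h1 h2)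
          (fun a _ _ h1 => Submodule.smul_mem _ a h1) hy'
        by_contra hne
        exact hmem (Set.mem_biUnion hx (Finsupp.mem_support_iff.2 hne))
      exact hsub ⟨r, rfl⟩
    show (c i j).hom (Submodule.mkQ (N ⟨i, j⟩) o) = 0
    rw [this]
    exact map_zero _
  let Ψ : ∀ i, C.opcycles i ⟶ (∐ F).X i := fun i => ModuleCat.ofHom
    { toFun := fun o => ∑ᶠ j : J i, (c i j).hom (Submodule.mkQ (N ⟨i, j⟩) o)
      map_add' := fun x y => by
        rw [← finsum_add_distrib (hfin i x) (hfin i y)]
        exact finsum_congr fun j => by rw [map_add]; exact map_add _ _ _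
      map_smul' := fun r x => by
        rw [RingHom.id_apply, smul_finsum' r (hfin i x)]
        exact finsum_congr fun j => by rw [map_smul]; exact map_smul _ _ _ }
  have hd : ∀ i j, (∐ F).d i j = 0 := fun i j => by
    let e := fun q => PreservesCoproduct.iso (HomologicalComplex.eval (ModuleCat.{u} R) (ComplexShape.up ℤ) q) F
    rw [← cancel_epi (e i).inv, comp_zero]
    refine Sigma.hom_ext _ _ fun p => ?_
    rw [← Category.assoc, comp_zero]
    have h1 : Sigma.ι (fun p => (F p).X i) p ≫ (e i).inv = (Sigma.ι F p).f i :=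
      ι_comp_sigmaComparison (HomologicalComplex.eval (ModuleCat.{u} R) (ComplexShape.up ℤ) i) F p
    rw [show Sigma.ι (fun p => ((HomologicalComplex.eval _ _ i).obj (F p))) p ≫ (e i).inv = (Sigma.ι F p).f i from h1]
    exact ((Sigma.ι F p).comm i j).trans (by rw [HomologicalComplex.single_obj_d, zero_comp])
  let g : C ⟶ ∐ F :=
    { f := fun i => C.pOpcycles i ≫ Ψ i
      comm' := fun i j _ => by
        rw [hd, comp_zero, ← Category.assoc, HomologicalComplex.d_pOpcycles, zero_comp] }
  haveI : PreservesColimit (Discrete.functor F) (Q (C := ModuleCat.{u} R)) := QCoprod.preservesColimit_Q F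
  haveI : HasCoproducts.{u} (DerivedCategory (ModuleCat.{u} R)) := KInjRes.hasCoproducts_derivedCategory
  haveI := hK κ
  let sc := sigmaComparison (Q (C := ModuleCat.{u} R)) F
  obtain ⟨s, hs⟩ := exists_support (fun p => Q.obj (F p)) (Q.map g ≫ inv sc)
  have hg : Q.map g ≫ Q.map (FinSupp.idem F s) = Q.map g := by
    have h := congrArg (· ≫ sc) hs
    simp only [Category.assoc, IsIso.inv_hom_id, Category.comp_id] at h
    rw [FinSupp.sigmaComparison_idem (Q (C := ModuleCat.{u} R)) F s] at h
    simpa [sc] using h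
  have hmem : ∀ p : κ, p ∈ s := by
    intro p
    by_contra hp
    obtain ⟨i, j⟩ := p
    have hf : (g ≫ FinSupp.proj F ⟨i, j⟩).f i = C.pOpcycles i ≫ ModuleCat.ofHom (Submodule.mkQ (N ⟨i, j⟩)) ≫
        (HomologicalComplex.singleObjXSelf (ComplexShape.up ℤ) i (W ⟨i, j⟩)).inv := by
      show (C.pOpcycles i ≫ Ψ i) ≫ _ = _
      rw [Category.assoc]
      congr 1
      refine ModuleCat.hom_ext (LinearMap.ext fun o => ?_)
      show ((FinSupp.proj F ⟨i, j⟩).f i).hom (∑ᶠ j' : J i, (c i j').hom (Submodule.mkQ (N ⟨i, j'⟩) o)) = _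
      rw [map_finsum _ (hfin i o), finsum_eq_single _ j]
      · show ((Sigma.ι F ⟨i, j⟩).f i ≫ (FinSupp.proj F ⟨i, j⟩).f i).hom _ = _
        rw [← HomologicalComplex.comp_f, show Sigma.ι F ⟨i, j⟩ ≫ FinSupp.proj F ⟨i, j⟩ = 𝟙 _ by simp [FinSupp.proj]]
        rfl
      · intro j' hj'
        show ((Sigma.ι F ⟨i, j'⟩).f i ≫ (FinSupp.proj F ⟨i, j⟩).f i).hom _ = 0
        rw [← HomologicalComplex.comp_f, show Sigma.ι F ⟨i, j'⟩ ≫ FinSupp.proj F ⟨i, j⟩ = 0 by
          simp only [FinSupp.proj, Sigma.ι_desc]; exact dif_neg (show ¬ ((⟨i, j'⟩ : κ) = ⟨i, j⟩) from fun h => hj' (eq_of_heq (Sigma.mk.inj h).2))]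
        rfl
    have h0 : Q.map (g ≫ FinSupp.proj F ⟨i, j⟩) = 0 := by
      rw [Functor.map_comp, ← hg, Category.assoc, ← Functor.map_comp, idem_comp_proj_eq_zero F hp]
      simp
    have h1 : HomologicalComplex.homologyMap (g ≫ FinSupp.proj F ⟨i, j⟩) i = 0 := by
      rw [← cancel_epi ((homologyFunctorFactors (ModuleCat.{u} R) i).hom.app C), comp_zero]
      refine ((homologyFunctorFactors (ModuleCat.{u} R) i).hom.naturality (g ≫ FinSupp.proj F ⟨i, j⟩)).symm.trans ?_
      rw [Functor.comp_map, h0, Functor.map_zero, zero_comp]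
    have h2 := congrArg (fun t => ModuleCat.Hom.hom t ((b i j : H i) : C.homology i))
      (homologyι_comp_eq_zero C i _ _ hf h1)
    have h3 : (C.homologyι i).hom (b i j) ∈ N ⟨i, j⟩ := (Submodule.Quotient.mk_eq_zero _).1 h2
    have h4 := h3 1
    rw [one_smul] at h4
    change (b i).coord j (π i (rsMap k (C.homologyι i).hom (b i j))) = 0 at h4
    rw [show π i (rsMap k (C.homologyι i).hom (b i j)) = b i j from LinearMap.congr_fun (hπ i) (b i j)] at h4
    simp at h4
  haveI : Finite κ := Finite.of_fintype {p : κ // p ∈ s} |> fun _ =>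
    Finite.of_injective (fun p : κ => (⟨p, hmem p⟩ : {p : κ // p ∈ s})) fun _ _ h => congrArg Subtype.val h
  refine ⟨fun i => ?_, (s.image Sigma.fst).finite_toSet.subset fun i hi => ?_⟩
  · haveI : Finite (J i) := Finite.of_injective (fun j => (⟨i, j⟩ : κ)) fun _ _ h => eq_of_heq (Sigma.mk.inj h).2
    exact Module.Finite.of_basis (b i)
  · haveI : Nontrivial (H i) := hi
    obtain ⟨j⟩ := (b i).index_nonempty
    exact Finset.mem_coe.2 (Finset.mem_image.2 ⟨⟨i, j⟩, hmem _, rfl⟩)

end Forward

end Groth.Agent.H02CA.Beil
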